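import Cfsg.Agent.H829.BR.Psl
import Cfsg.Agent.H116.RatB0.StB0

/-!
# The row `PSL_n(q)` of S4891 (helper829): final form

`rowInt_of_triv` : an irreducible difference of two transitive permutation characters, such that `C(P)` acts trivially on the
fixed points of the Sylow `p`-subgroup `P` in both actions, of degree prime to `p`, lies in the principal block.
`psl` : `RowForZ p` for the groups `PSL_n(q)`, `p ∤ q`, `p` odd.
-/

set_option autoImplicit false
set_option linter.unusedSectionVars false

open Matrix Module Subgroup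

namespace Cfsg.Agent.H829.BR

open Cfsg Cfsg.Agent.Characters.Core
open Cfsg.Agent.H932.BR (Om)
open Cfsg.Agent.H145.BR
open Cfsg.Agent.H116.RatB0

universe u v

variable {p : ℕ} [hp : Fact p.Prime]

theorem permC_eq_fix {G : Type u} [Group G] {X : Type v} [MulAction G X] [MulAction.IsPretransitive G X] (x : X) (g : G) :
    permC G X g = fixedPointCharacter (MulAction.stabilizer G x) g := by
  unfold permC fixedPointCharacter
  congr 1
  refine (Nat.card_congr ?_).symm
  have hb : Function.Bijective (MulAction.ofQuotientStabilizer G x) :=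
    ⟨MulAction.injective_ofQuotientStabilizer G x, fun y => by
      obtain ⟨g, hg⟩ := MulAction.exists_smul_eq G x y
      exact ⟨(g : G ⧸ MulAction.stabilizer G x), hg⟩⟩
  refine (Equiv.ofBijective _ hb).subtypeEquiv fun y => ?_
  show g • y = y ↔ g • MulAction.ofQuotientStabilizer G x y = MulAction.ofQuotientStabilizer G x y
  rw [← MulAction.ofQuotientStabilizer_smul, hb.1.eq_iff]

/-- a good point -/
theorem exists_point {G : Type u} [Group G] [Finite G] (P : Sylow p G) {X : Type v} [Finite X] [Nonempty X]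
    [MulAction G X] [MulAction.IsPretransitive G X]
    (hX : ∀ x : X, (∀ g ∈ (P : Subgroup G), g • x = x) → ∀ c ∈ centralizer ((P : Subgroup G) : Set G), c • x = x) :
    ∃ x : X, p ∣ (MulAction.stabilizer G x).index ∨
      reg p (MulAction.stabilizer G x) ≡ reg p (⊤ : Subgroup G) [MOD p] := by
  by_cases h : p ∣ Nat.card X
  · obtain ⟨x⟩ := ‹Nonempty X›
    exact ⟨x, Or.inl (by rwa [MulAction.index_stabilizer_of_transitive])⟩
  · have h1 := P.isPGroup'.nonempty_fixed_point_of_prime_not_dvd_card X h
    obtain ⟨x, hx⟩ := h1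
    have hx' : ∀ g ∈ (P : Subgroup G), g • x = x := fun g hg => hx ⟨g, hg⟩
    exact ⟨x, Or.inr (reg_modEq_of_le P.isPGroup' (fun g hg => hx' g hg) (fun c hc => hX x hx' c hc))⟩

/-- **Criterion.** -/
theorem rowInt_of_triv {S : Type u} [Group S] [Finite S] (P : Sylow p S) (X Y : Type v) [Finite X] [Finite Y]
    [Nonempty X] [Nonempty Y] [MulAction S X] [MulAction S Y] [MulAction.IsPretransitive S X]
    [MulAction.IsPretransitive S Y]
    (hX : ∀ x : X, (∀ g ∈ (P : Subgroup S), g • x = x) → ∀ c ∈ centralizer ((P : Subgroup S) : Set S), c • x = x)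
    (hY : ∀ x : Y, (∀ g ∈ (P : Subgroup S), g • x = x) → ∀ c ∈ centralizer ((P : Subgroup S) : Set S), c • x = x)
    (hirr : IsIrrCharacter S (fun g => permC S X g - permC S Y g)) (hne : ¬ ∀ g, permC S X g - permC S Y g = 1)
    (hinv : ∀ a : MulAut S, ∀ g : S, permC S X (a g) - permC S Y (a g) = permC S X g - permC S Y g)
    (hd : (Nat.card X : ZMod p) ≠ Nat.card Y) : RowInt p S := by
  classical
  intro M hM
  let θ : IrrCharacter S := ⟨fun g => permC S X g - permC S Y g, hirr⟩
  have hdeg : ¬ p ∣ charDegree (θ : S → ℂ) := by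
    intro h
    apply hd
    have h1 : (charDegree (θ : S → ℂ) : ℂ) = (θ : S → ℂ) 1 := (Blocks.Knorr.charDegree_eq θ.2).symm
    have h2 : (θ : S → ℂ) 1 = (Nat.card X : ℂ) - Nat.card Y := by
      show permC S X 1 - permC S Y 1 = _
      rw [permC_one, permC_one]
    rw [h2] at h1
    have h3 : (charDegree (θ : S → ℂ) : ℤ) = (Nat.card X : ℤ) - Nat.card Y := by exact_mod_cast h1
    have h4 : ((charDegree (θ : S → ℂ) : ℤ) : ZMod p) = ((Nat.card X : ℤ) - Nat.card Y : ℤ) := by rw [h3]
    rw [Int.cast_natCast, (ZMod.natCast_eq_zero_iff _ _).2 h, Int.cast_sub, Int.cast_natCast, Int.cast_natCast] at h4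
    exact (sub_eq_zero.1 h4.symm)
  obtain ⟨x, hx⟩ := exists_point P hX
  obtain ⟨y, hy⟩ := exists_point P hY
  refine ⟨θ, ?_, fun h5 => hne fun g => congrFun h5 g, hdeg, fun g => ?_, fun a x => hinv a x⟩
  · refine mem_of_alt hM (Finset.univ : Finset Bool) (fun b => if b then 1 else -1)
      (fun b => if b then MulAction.stabilizer S x else MulAction.stabilizer S y) θ ?_ hdeg ?_
    · intro g
      show permC S X g - permC S Y g = _
      rw [Fintype.sum_bool, permC_eq_fix x, permC_eq_fix y]
      simp
      ring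
    · intro b _
      cases b
      · simpa using hy
      · simpa using hx
  · exact ⟨(Nat.card (MulAction.fixedBy X g) : ℤ) - (Nat.card (MulAction.fixedBy Y g) : ℤ), by
      show permC S X g - permC S Y g = _
      unfold permC
      push_cast
      rfl⟩

local notation "𝔡" => orderOf (Fintype.card _ : ZMod p)

/-- **The row `PSL_n(q)`**, `p ∣ q - 1`. -/
theorem rowInt_one (hp2 : p ≠ 2) {F : Type u} [Field F] [Fintype F] {n : ℕ} (hn : 2 ≤ n) (hpF : (p : F) ≠ 0)
    (hq : p ∣ Fintype.card F - 1) : RowInt p (Matrix.ProjectiveSpecialLinearGroup (Fin n) F) := by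
  let P : Sylow p (SLn F n) := default
  have hd1 : orderOf (Fintype.card F : ZMod p) = 1 := by
    rw [orderOf_eq_one_iff]
    have hq' := hq
    rw [← ZMod.natCast_eq_zero_iff, Nat.cast_sub (one_lt_card (F := F)).le, Nat.cast_one, sub_eq_zero] at hq'
    exact hq'
  have hpos : ∀ k, k ≤ n → Nonempty (Om F n k) := by
    intro k hk
    by_contra hcon
    rw [not_nonempty_iff] at hcon
    have h0 : NN F n k = 0 := Nat.card_of_isEmpty
    have h8 : ∀ j ≤ k, NN F n (k - j) = 0 := by
      intro j
      induction j with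
      | zero => intro _; exact h0
      | succ j ih =>
        intro hj
        have h9 := NN_succ (F := F) (n := n) (k := k - (j + 1)) (by omega)
        have h10 : k - (j + 1) + 1 = k - j := by omega
        rw [h10, ih (by omega), zero_mul] at h9
        rcases Nat.mul_eq_zero.1 h9.symm with h11 | h11
        · exact h11
        · exfalso
          have := Nat.one_lt_pow (n := n - (k - (j + 1))) (by omega) (one_lt_card (F := F))
          omega
    have h9 := h8 k le_rfl
    rw [Nat.sub_self, NN_zero] at h9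
    exact one_ne_zero h9
  have key : ∀ k, 1 ≤ k → 2 * k ≤ n →
      (∀ x : Om F n k, (∀ g ∈ (bar P : Subgroup (Matrix.ProjectiveSpecialLinearGroup (Fin n) F)), g • x = x) →
        ∀ c ∈ centralizer ((bar P : Subgroup (Matrix.ProjectiveSpecialLinearGroup (Fin n) F)) :
          Set (Matrix.ProjectiveSpecialLinearGroup (Fin n) F)), c • x = x) →
      (∀ x : Om F n (k - 1), (∀ g ∈ (bar P : Subgroup (Matrix.ProjectiveSpecialLinearGroup (Fin n) F)), g • x = x) →
        ∀ c ∈ centralizer ((bar P : Subgroup (Matrix.ProjectiveSpecialLinearGroup (Fin n) F)) :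
          Set (Matrix.ProjectiveSpecialLinearGroup (Fin n) F)), c • x = x) →
      (NN F n k : ZMod p) ≠ NN F n (k - 1) → RowInt p (Matrix.ProjectiveSpecialLinearGroup (Fin n) F) := by
    intro k h1 h2 hX hY h5
    have := transitive_om (F := F) n k
    have := transitive_om (F := F) n (k - 1)
    have := hpos k (by omega)
    have := hpos (k - 1) (by omega)
    refine rowInt_of_triv (bar P) (Om F n k) (Om F n (k - 1)) hX hY (H932.BR.irr h1 h2) ?_ ?_ h5
    · intro h
      have h4 := h 1
      rw [permC_one, permC_one] at h4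
      have h5 : (NN F n k : ℂ) = ((NN F n (k - 1) + 1 : ℕ) : ℂ) := by
        push_cast
        exact sub_eq_iff_eq_add'.1 h4
      have h6 := NN_lt (F := F) h1 h2
      have h7 : NN F n k = NN F n (k - 1) + 1 := by exact_mod_cast h5
      omega
    · intro a g
      rw [H932.BR.permC_aut hn (by omega), H932.BR.permC_aut hn (by omega)]
  by_cases hpn : p ∣ n
  · -- `k = 1`
    refine key 1 le_rfl hn (fun W hW => (no_line P (by omega) hq hpn W hW).elim) ?_ ?_
    · intro W _ c _
      obtain ⟨g, rfl⟩ := QuotientGroup.mk_surjective c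
      exact smul_dim_zero W g
    · have h1 := NN_step (p := p) (F := F) (n := n) (b := 1) (c := n) (by rw [hd1]; exact one_pos) one_pos
        (by rw [hd1]; omega) (by rw [hd1]; omega)
      rw [hd1, Nat.cast_one, mul_one, mul_one, Nat.sub_self, NN_zero, Nat.cast_one, one_mul,
        (ZMod.natCast_eq_zero_iff _ _).2 hpn] at h1
      rw [h1, Nat.sub_self, NN_zero, Nat.cast_one]
      exact zero_ne_one
  · obtain ⟨k, h1, h2, -, -, h5⟩ := exists_num (p := p) (F := F) (n := n) hp2 (by rw [hd1]; exact one_pos)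
      (by rw [hd1]; omega) (by rw [hd1, Nat.div_one]; omega)
    exact key k h1 h2 (fun W hW c hc => triv_one P (by omega) hpF hq hpn W hW c hc)
      (fun W hW c hc => triv_one P (by omega) hpF hq hpn W hW c hc) h5

/-- **The field `psl`**: `PSL_n(q)`, `p ∤ q`, `p` odd: the integer valued row, without hypotheses. -/
theorem psl (hp2 : p ≠ 2) :
    RowForZ p (fun X _ => ∃ (F : Type) (_ : Field F) (_ : Fintype F) (n : ℕ), (p : F) ≠ 0 ∧ 2 ≤ n ∧
      Nonempty (X ≃* Matrix.ProjectiveSpecialLinearGroup (Fin n) F)) := by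
  intro X _ _ _ hna hd ⟨F, _, _, n, hpF, hn, ⟨e⟩⟩
  by_cases hq : p ∣ Fintype.card F - 1
  · exact H583.BR.RowZ.congr e (rowInt_one hp2 hn hpF hq).rowZ
  · exact H583.BR.rowForZ_psl p X hna hd ⟨F, _, _, n, hpF, hn, hq, ⟨e⟩⟩

end Cfsg.Agent.H829.BR
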