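import Mathlib

/-!
# A Sylow `p`-subgroup of `SL_n(q)` and its invariant subspaces (S4891, helper829)

`P` a Sylow `p`-subgroup of `SL_n(q)`, `p ∤ q`, `d` the order of `q` modulo `p`.
* `finrank_fix` : `dim C_V(P) = n % d` (`d ≥ 2`);
* `finrank_mod` : `dim W ≡ dim C_W(P)` modulo `d` for the invariant subspaces `W`;
* `stable_of` : `d ≥ 2`, `W` invariant and `C_W(P) = 0` or `C_V(P)`: `W` is invariant under `C(P)`;
* `stable_one` : `p ∣ q - 1`, `p ∤ n`: every invariant subspace is invariant under `C(P)`.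
-/

set_option autoImplicit false
set_option linter.unusedSectionVars false

open Matrix Module Subgroup

namespace Cfsg.Agent.H829.BR

universe u

variable {F : Type u} [Field F] [Fintype F] {n p : ℕ} [hp : Fact p.Prime]

/-- the special linear group -/
abbrev SLn (F : Type u) [Field F] (n : ℕ) := Matrix.SpecialLinearGroup (Fin n) F

/-- the action on `F ^ n` -/
noncomputable def rho (F : Type u) [Field F] (n : ℕ) : SLn F n →* Module.End F (Fin n → F) where
  toFun g := Matrix.toLin' (g : Matrix (Fin n) (Fin n) F)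
  map_one' := by simp [Module.End.one_eq_id]
  map_mul' a b := by simp [Matrix.toLin'_mul, Module.End.mul_eq_comp]

theorem rho_apply (g : SLn F n) (v : Fin n → F) : rho F n g v = (g : Matrix (Fin n) (Fin n) F) *ᵥ v := by
  show Matrix.toLin' _ v = _
  rw [Matrix.toLin'_apply]

theorem rho_injective : Function.Injective (rho F n) := by
  intro a b h
  apply Subtype.ext
  exact Matrix.toLin'.injective h

theorem rho_mul (a b : SLn F n) (v : Fin n → F) : rho F n (a * b) v = rho F n a (rho F n b v) := by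
  rw [map_mul]
  rfl

theorem rho_inv_cancel (a : SLn F n) (v : Fin n → F) : rho F n a (rho F n a⁻¹ v) = v := by
  rw [← rho_mul, mul_inv_cancel, map_one]
  rfl

theorem rho_cancel_inv (a : SLn F n) (v : Fin n → F) : rho F n a⁻¹ (rho F n a v) = v := by
  rw [← rho_mul, inv_mul_cancel, map_one]
  rfl

/-- elements of `SL_n` from endomorphisms -/
noncomputable def mkSL (T : Module.End F (Fin n → F)) (h : LinearMap.det T = 1) : SLn F n :=
  ⟨LinearMap.toMatrix' T, by rw [LinearMap.det_toMatrix']; exact h⟩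

theorem rho_mkSL (T : Module.End F (Fin n → F)) (h : LinearMap.det T = 1) : rho F n (mkSL T h) = T :=
  Matrix.toLin'_toMatrix' T

theorem det_eq_one (hq : ¬ p ∣ Fintype.card F - 1) {T : Module.End F (Fin n → F)} {m : ℕ} (hT : T ^ p ^ m = 1) :
    LinearMap.det T = 1 := by
  have h1 : (LinearMap.det T) ^ p ^ m = 1 := by rw [← map_pow, hT, map_one]
  have h0 : LinearMap.det T ≠ 0 := by
    intro h
    rw [h, zero_pow (pow_pos hp.out.pos m).ne'] at h1
    exact zero_ne_one h1
  have h2 : (LinearMap.det T) ^ (Fintype.card F - 1) = 1 := FiniteField.pow_card_sub_one_eq_one _ h0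
  have h3 : (p ^ m).Coprime (Fintype.card F - 1) := Nat.Coprime.pow_left m ((Nat.Prime.coprime_iff_not_dvd hp.out).2 hq)
  exact pow_gcd_eq_one_of h1 h2 h3
where
  pow_gcd_eq_one_of {M : Type u} [Field M] {x : M} {a b : ℕ} (h1 : x ^ a = 1) (h2 : x ^ b = 1) (h3 : a.Coprime b) :
      x = 1 := by
    have h4 : orderOf x ∣ a.gcd b := Nat.dvd_gcd (orderOf_dvd_of_pow_eq_one h1) (orderOf_dvd_of_pow_eq_one h2)
    rw [h3] at h4
    exact orderOf_eq_one_iff.1 (Nat.dvd_one.1 h4)

/-- equivariant projections -/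
theorem exists_idem (P : Subgroup (SLn F n)) (hP : (Nat.card P : F) ≠ 0) (W : Submodule F (Fin n → F))
    (hW : ∀ x ∈ P, ∀ w ∈ W, rho F n x w ∈ W) :
    ∃ e : Module.End F (Fin n → F), (∀ v, e v ∈ W) ∧ (∀ w ∈ W, e w = w) ∧ ∀ x ∈ P, ∀ v, e (rho F n x v) = rho F n x (e v) := by
  classical
  have : Fintype P := Fintype.ofFinite P
  obtain ⟨g, hg⟩ := LinearMap.exists_leftInverse_of_injective W.subtype (Submodule.ker_subtype W)
  have hgw : ∀ w (hw : w ∈ W), g w = ⟨w, hw⟩ := fun w hw => LinearMap.congr_fun hg ⟨w, hw⟩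
  let e0 : Module.End F (Fin n → F) := W.subtype ∘ₗ g
  have he0 : ∀ v, e0 v ∈ W := fun v => (g v).2
  have he0' : ∀ w ∈ W, e0 w = w := fun w hw => by
    show ((g w : W) : Fin n → F) = w
    rw [hgw w hw]
  refine ⟨(Nat.card P : F)⁻¹ • ∑ x : P, rho F n x * e0 * rho F n (x⁻¹ : P), ?_, ?_, ?_⟩
  · intro v
    rw [LinearMap.smul_apply, LinearMap.sum_apply]
    exact W.smul_mem _ (W.sum_mem fun x _ => hW x x.2 _ (he0 _))
  · intro w hw
    rw [LinearMap.smul_apply, LinearMap.sum_apply]
    have h1 : ∀ x : P, (rho F n x * e0 * rho F n (x⁻¹ : P)) w = w := by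
      intro x
      show rho F n x (e0 (rho F n ((x⁻¹ : P) : SLn F n) w)) = w
      rw [he0' _ (hW _ (x⁻¹ : P).2 w hw)]
      exact rho_inv_cancel _ _
    rw [Finset.sum_congr rfl fun x _ => h1 x, Finset.sum_const, Finset.card_univ, ← Nat.card_eq_fintype_card,
      ← Nat.cast_smul_eq_nsmul F, smul_smul, inv_mul_cancel₀ hP, one_smul]
  · intro y hy v
    rw [LinearMap.smul_apply, LinearMap.sum_apply, LinearMap.smul_apply, LinearMap.sum_apply, map_smul, map_sum]
    congr 1
    refine Fintype.sum_equiv (Equiv.mulLeft (⟨y, hy⟩ : P)⁻¹) _ _ fun x => ?_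
    show rho F n x (e0 (rho F n ((x⁻¹ : P) : SLn F n) (rho F n y v))) =
      rho F n y (rho F n (((⟨y, hy⟩ : P)⁻¹ * x : P) : SLn F n) (e0 (rho F n ((((⟨y, hy⟩ : P)⁻¹ * x)⁻¹ : P) : SLn F n) v)))
    have h1 : y * (((⟨y, hy⟩ : P)⁻¹ * x : P) : SLn F n) = x := by simp
    have h2 : ((((⟨y, hy⟩ : P)⁻¹ * x)⁻¹ : P) : SLn F n) = (x⁻¹ : P) * y := by simp
    rw [← rho_mul, ← rho_mul, h1, h2]

/-- a `p`-element centralizing a Sylow `p`-subgroup lies in it -/
theorem mem_of_comm {G : Type*} [Group G] [Finite G] (P : Sylow p G) {y : G} {m : ℕ} (hy : y ^ p ^ m = 1)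
    (hc : ∀ x ∈ (P : Subgroup G), y * x = x * y) : y ∈ (P : Subgroup G) := by
  have h1 : IsPGroup p (zpowers y) := by
    rw [IsPGroup.iff_orderOf]
    rintro ⟨_, k, rfl⟩
    have h2 : orderOf (⟨y ^ k, ⟨k, rfl⟩⟩ : zpowers y) ∣ p ^ m := by
      apply orderOf_dvd_of_pow_eq_one
      apply Subtype.ext
      show (y ^ k) ^ p ^ m = 1
      rw [← zpow_natCast, ← _root_.zpow_mul, mul_comm, _root_.zpow_mul, zpow_natCast, hy, _root_.one_zpow]
    exact ((Nat.dvd_prime_pow hp.out).1 h2).imp fun _ h => h.2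
  have h2 : (P : Subgroup G) ≤ normalizer ((zpowers y : Subgroup G) : Set G) := by
    intro x hx
    rw [mem_normalizer_iff]
    have h3 : ∀ k : ℤ, x * y ^ k * x⁻¹ = y ^ k := fun k => by
      have h4 : Commute y x := hc x hx
      rw [← (h4.zpow_left k).eq, mul_inv_cancel_right]
    intro z
    constructor
    · rintro ⟨k, rfl⟩
      exact ⟨k, (h3 k).symm⟩
    · rintro ⟨k, hk⟩
      refine ⟨k, ?_⟩
      have h5 : x * z * x⁻¹ = x * y ^ k * x⁻¹ := by rw [h3]; exact hk.symm
      exact (mul_left_cancel (mul_right_cancel h5)).symm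
  have h3 := IsPGroup.to_sup_of_normal_right' P.isPGroup' h1 h2
  have h4 := P.is_maximal' h3 le_sup_left
  rw [← h4]
  exact (le_sup_right : zpowers y ≤ _) (mem_zpowers y)

/-- the fixed vectors of `Q` -/
def fixV (Q : Subgroup (SLn F n)) : Submodule F (Fin n → F) where
  carrier := {v | ∀ x ∈ Q, rho F n x v = v}
  add_mem' := fun ha hb x hx => by rw [map_add, ha x hx, hb x hx]
  zero_mem' := fun x _ => map_zero _
  smul_mem' := fun c v hv x hx => by rw [map_smul, hv x hx]

theorem mem_fixV {Q : Subgroup (SLn F n)} {v : Fin n → F} : v ∈ fixV Q ↔ ∀ x ∈ Q, rho F n x v = v := Iff.rfl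

variable (P : Sylow p (SLn F n))

/-- the blocks `x e + (1 - e)` lie in `P` -/
theorem block_mem (hq : ¬ p ∣ Fintype.card F - 1) {e : Module.End F (Fin n → F)} (he : e * e = e)
    (hc : ∀ x ∈ (P : Subgroup (SLn F n)), e * rho F n x = rho F n x * e) {x : SLn F n}
    (hx : x ∈ (P : Subgroup (SLn F n))) :
    ∃ y ∈ (P : Subgroup (SLn F n)), rho F n y = rho F n x * e + (1 - e) := by
  have hmul : ∀ x ∈ (P : Subgroup (SLn F n)), ∀ y ∈ (P : Subgroup (SLn F n)),
      (rho F n x * e + (1 - e)) * (rho F n y * e + (1 - e)) = rho F n (x * y) * e + (1 - e) := by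
    intro x hx y hy
    have h1 : rho F n x * e * (rho F n y * e) = rho F n (x * y) * e := by
      rw [mul_assoc, ← mul_assoc e, hc y hy, mul_assoc (rho F n y), he, ← mul_assoc, map_mul]
    have h2 : rho F n x * e * (1 - e) = 0 := by rw [mul_assoc, mul_sub, he, mul_one, sub_self, mul_zero]
    have h3 : (1 - e) * (rho F n y * e) = 0 := by
      rw [sub_mul, one_mul, ← mul_assoc, hc y hy, mul_assoc, he, sub_self]
    have h4 : (1 - e) * (1 - e) = 1 - e := by rw [mul_sub, sub_mul, sub_mul, he]; simp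
    rw [add_mul, mul_add, mul_add, h1, h2, h3, h4]
    simp
  have hone : rho F n 1 * e + (1 - e) = 1 := by rw [map_one, one_mul]; abel
  have hpow : ∀ x ∈ (P : Subgroup (SLn F n)), ∀ k : ℕ, (rho F n x * e + (1 - e)) ^ k = rho F n (x ^ k) * e + (1 - e) := by
    intro x hx k
    induction k with
    | zero => rw [pow_zero, pow_zero, hone]
    | succ k ih => rw [pow_succ, ih, hmul _ (pow_mem hx k) _ hx, pow_succ]
  have hdet : ∀ x ∈ (P : Subgroup (SLn F n)), LinearMap.det (rho F n x * e + (1 - e)) = 1 := by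
    intro x hx
    obtain ⟨m, hm⟩ := P.isPGroup' ⟨x, hx⟩
    refine det_eq_one (p := p) hq (m := m) ?_
    have h1 : x ^ p ^ m = 1 := congrArg Subtype.val hm
    rw [hpow x hx, h1, hone]
  let f : (P : Subgroup (SLn F n)) →* SLn F n :=
    { toFun := fun x => mkSL _ (hdet x x.2)
      map_one' := rho_injective (by rw [rho_mkSL, map_one]; exact hone)
      map_mul' := fun x y => rho_injective (by
        rw [rho_mkSL, map_mul, rho_mkSL, rho_mkSL, hmul _ x.2 _ y.2]
        rfl) }
  have hf : ∀ x : (P : Subgroup (SLn F n)), rho F n (f x) = rho F n x * e + (1 - e) := fun x => rho_mkSL _ (hdet x x.2)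
  have h1 : IsPGroup p f.range := P.isPGroup'.of_surjective f.rangeRestrict f.rangeRestrict_surjective
  have hconj : ∀ y x : (P : Subgroup (SLn F n)), (y : SLn F n) * f x * (y : SLn F n)⁻¹ = f (y * x * y⁻¹) := by
    intro y x
    apply rho_injective
    rw [map_mul, map_mul, hf, hf, mul_add, add_mul]
    have h2 : rho F n y * (rho F n x * e) * rho F n (y : SLn F n)⁻¹ = rho F n ((y * x * y⁻¹ : (P : Subgroup (SLn F n))) : SLn F n) * e := by
      have h3 := hc _ (inv_mem y.2)
      rw [mul_assoc, mul_assoc (rho F n x), h3]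
      rw [← mul_assoc, ← mul_assoc, ← map_mul, ← map_mul]
      rfl
    have h3 : rho F n y * (1 - e) * rho F n (y : SLn F n)⁻¹ = 1 - e := by
      rw [mul_assoc, sub_mul, one_mul, hc _ (inv_mem y.2), mul_sub, ← mul_assoc, ← map_mul, mul_inv_cancel, map_one,
        one_mul]
    rw [h2, h3]
  have h2 : (P : Subgroup (SLn F n)) ≤ normalizer ((f.range : Subgroup (SLn F n)) : Set (SLn F n)) := by
    intro y hy
    have hc1 : ∀ x : (P : Subgroup (SLn F n)), y * f x * y⁻¹ ∈ f.range := by
      intro x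
      have h5 := hconj (⟨y, hy⟩ : (P : Subgroup (SLn F n))) x
      have h6 : ((⟨y, hy⟩ : (P : Subgroup (SLn F n))) : SLn F n) = y := rfl
      rw [h6] at h5
      rw [h5]
      exact MonoidHom.mem_range.2 ⟨_, rfl⟩
    have hc2 : ∀ x : (P : Subgroup (SLn F n)), y⁻¹ * f x * y ∈ f.range := by
      intro x
      have h5 := hconj ((⟨y, hy⟩ : (P : Subgroup (SLn F n)))⁻¹) x
      have h6 : (((⟨y, hy⟩ : (P : Subgroup (SLn F n)))⁻¹ : (P : Subgroup (SLn F n))) : SLn F n) = y⁻¹ := rfl
      rw [h6, inv_inv] at h5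
      rw [h5]
      exact MonoidHom.mem_range.2 ⟨_, rfl⟩
    rw [mem_normalizer_iff]
    intro z
    constructor
    · intro hz
      obtain ⟨x, rfl⟩ := MonoidHom.mem_range.1 hz
      exact hc1 x
    · intro hz
      obtain ⟨x, hx⟩ := MonoidHom.mem_range.1 hz
      have h5 := hc2 x
      rw [hx] at h5
      have h6 : y⁻¹ * (y * z * y⁻¹) * y = z := by group
      rw [h6] at h5
      exact h5
  have h3 := IsPGroup.to_sup_of_normal_right' P.isPGroup' h1 h2
  have h4 := P.is_maximal' h3 le_sup_left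
  have h5 : f ⟨x, hx⟩ ∈ ((P : Subgroup (SLn F n)) ⊔ f.range : Subgroup (SLn F n)) :=
    (le_sup_right : f.range ≤ _) (MonoidHom.mem_range.2 ⟨_, rfl⟩)
  exact ⟨f ⟨x, hx⟩, h4.le h5, hf _⟩

theorem card_ne (hpF : (p : F) ≠ 0) : (Nat.card (P : Subgroup (SLn F n)) : F) ≠ 0 := by
  obtain ⟨m, hm⟩ := IsPGroup.iff_card.1 P.isPGroup'
  rw [hm, Nat.cast_pow]
  exact pow_ne_zero _ hpF

/-- the equivariant projection on an invariant subspace as an element of the algebra -/
theorem exists_proj (hpF : (p : F) ≠ 0) (W : Submodule F (Fin n → F))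
    (hW : ∀ x ∈ (P : Subgroup (SLn F n)), ∀ w ∈ W, rho F n x w ∈ W) :
    ∃ e : Module.End F (Fin n → F), (∀ v, e v ∈ W) ∧ (∀ w ∈ W, e w = w) ∧ e * e = e ∧
      ∀ x ∈ (P : Subgroup (SLn F n)), e * rho F n x = rho F n x * e := by
  obtain ⟨e, h1, h2, h3⟩ := exists_idem (P : Subgroup (SLn F n)) (card_ne P hpF) W hW
  exact ⟨e, h1, h2, LinearMap.ext fun v => h2 _ (h1 v), fun x hx => LinearMap.ext fun v => h3 x hx v⟩

theorem comm_apply {g x : SLn F n} (h : g * x = x * g) (v : Fin n → F) :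
    rho F n g (rho F n x v) = rho F n x (rho F n g v) := by
  rw [← rho_mul, h, rho_mul]

/-- `g` centralizing `P` maps `W` into `W + C_V(P)` -/
theorem sub_mem_fix (hpF : (p : F) ≠ 0) (hq : ¬ p ∣ Fintype.card F - 1) {W : Submodule F (Fin n → F)}
    (hW : ∀ x ∈ (P : Subgroup (SLn F n)), ∀ w ∈ W, rho F n x w ∈ W) {g : SLn F n}
    (hg : ∀ x ∈ (P : Subgroup (SLn F n)), g * x = x * g) {w : Fin n → F} (hw : w ∈ W) :
    ∃ w' ∈ W, rho F n g w - w' ∈ fixV (P : Subgroup (SLn F n)) := by
  obtain ⟨e, h1, h2, h3, h4⟩ := exists_proj P hpF W hW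
  refine ⟨e (rho F n g w), h1 _, ?_⟩
  rw [mem_fixV]
  intro x hx
  obtain ⟨y, hy, hy'⟩ := block_mem P hq h3 h4 hx
  have h5 := comm_apply (hg y hy) w
  rw [hy'] at h5
  have h6 : (rho F n x * e + (1 - e)) w = rho F n x (e w) + (w - e w) := rfl
  have h7 : (rho F n x * e + (1 - e)) (rho F n g w) = rho F n x (e (rho F n g w)) + (rho F n g w - e (rho F n g w)) := rfl
  rw [h6, h7, h2 w hw, sub_self, add_zero, comm_apply (hg x hx)] at h5
  rw [map_sub, h5]
  abel

theorem card_ne_zmod (hpF : (p : F) ≠ 0) : (Fintype.card F : ZMod p) ≠ 0 := by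
  intro h
  rw [ZMod.natCast_eq_zero_iff] at h
  obtain ⟨r, hr⟩ := CharP.exists F
  obtain ⟨m, hrp, hcard⟩ := FiniteField.card F r
  rw [hcard] at h
  have h5 := (Nat.prime_dvd_prime_iff_eq hp.out hrp).1 (hp.out.dvd_of_dvd_pow h)
  rw [h5] at hpF
  exact hpF (CharP.cast_eq_zero F r)

/-- **The dimensions modulo `d`.** -/
theorem finrank_mod {Q : Subgroup (SLn F n)} (hQ : IsPGroup p Q) (hpF : (p : F) ≠ 0) {W : Submodule F (Fin n → F)}
    (hW : ∀ x ∈ Q, ∀ w ∈ W, rho F n x w ∈ W) :
    finrank F W ≡ finrank F (W ⊓ fixV Q : Submodule F (Fin n → F)) [MOD orderOf (Fintype.card F : ZMod p)] := by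
  let _ : MulAction Q W :=
    { smul := fun x w => ⟨rho F n x w, hW x x.2 w w.2⟩
      one_smul := fun w => Subtype.ext (by
        show rho F n ((1 : Q) : SLn F n) w = w
        rw [OneMemClass.coe_one, map_one]
        rfl)
      mul_smul := fun x y w => Subtype.ext (rho_mul (x : SLn F n) y w) }
  have h1 := hQ.card_modEq_card_fixedPoints (α := W)
  have h2 : Nat.card (MulAction.fixedPoints Q W) = Nat.card (W ⊓ fixV Q : Submodule F (Fin n → F)) := by
    refine Nat.card_congr ⟨fun w => ⟨w.1.1, w.1.2, fun x hx => ?_⟩, fun w => ⟨⟨w.1, w.2.1⟩, fun x => ?_⟩, fun w => rfl,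
      fun w => rfl⟩
    · exact congrArg Subtype.val (w.2 ⟨x, hx⟩)
    · exact Subtype.ext (w.2.2 x x.2)
  rw [h2] at h1
  have h3 : ∀ U : Submodule F (Fin n → F), Nat.card U = Fintype.card F ^ finrank F U := by
    intro U
    rw [Module.natCard_eq_pow_finrank (K := F), Nat.card_eq_fintype_card]
  rw [h3, h3, ← ZMod.natCast_eq_natCast_iff, Nat.cast_pow, Nat.cast_pow] at h1
  obtain ⟨u, hu⟩ := (card_ne_zmod (p := p) hpF).isUnit
  rw [← hu] at h1 ⊢
  rw [orderOf_units]
  have h6 : u ^ finrank F W = u ^ finrank F (W ⊓ fixV Q : Submodule F (Fin n → F)) := Units.ext (by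
    rw [Units.val_pow_eq_pow_val, Units.val_pow_eq_pow_val]; exact h1)
  exact pow_eq_pow_iff_modEq.1 h6

theorem dvd_iff (hpF : (p : F) ≠ 0) (m : ℕ) :
    p ∣ Fintype.card F ^ m - 1 ↔ orderOf (Fintype.card F : ZMod p) ∣ m := by
  have h1 : 1 ≤ Fintype.card F ^ m := Nat.one_le_pow _ _ Fintype.card_pos
  rw [orderOf_dvd_iff_pow_eq_one, ← ZMod.natCast_eq_zero_iff, Nat.cast_sub h1, sub_eq_zero, Nat.cast_pow, Nat.cast_one]

theorem exists_order_p {v : ℕ} (hv : orderOf (Fintype.card F : ZMod p) ≤ v) (h0 : 0 < orderOf (Fintype.card F : ZMod p))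
    (hpF : (p : F) ≠ 0) : ∃ A : Matrix (Fin v) (Fin v) F, A ^ p = 1 ∧ A ≠ 1 := by
  classical
  have h1 : p ∣ Nat.card (GL (Fin v) F) := by
    rw [Matrix.card_GL_field]
    have h2 : v - orderOf (Fintype.card F : ZMod p) < v := by omega
    refine Dvd.dvd.trans ?_ (Finset.dvd_prod_of_mem _ (Finset.mem_univ (⟨_, h2⟩ : Fin v)))
    show p ∣ Fintype.card F ^ v - Fintype.card F ^ (v - orderOf (Fintype.card F : ZMod p))
    have h3 : Fintype.card F ^ v - Fintype.card F ^ (v - orderOf (Fintype.card F : ZMod p)) =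
        Fintype.card F ^ (v - orderOf (Fintype.card F : ZMod p)) *
          (Fintype.card F ^ orderOf (Fintype.card F : ZMod p) - 1) := by
      rw [Nat.mul_sub, mul_one, ← pow_add, Nat.sub_add_cancel hv]
    rw [h3]
    exact ((dvd_iff hpF _).2 dvd_rfl).mul_left _
  obtain ⟨A, hA⟩ := exists_prime_orderOf_dvd_card' p h1
  refine ⟨A, ?_, ?_⟩
  · rw [← Units.val_pow_eq_pow_val, ← hA, pow_orderOf_eq_one, Units.val_one]
  · intro h
    have h2 : A = 1 := Units.ext h
    rw [h2, orderOf_one] at hA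
    exact hp.out.one_lt.ne hA

theorem order_pos (hpF : (p : F) ≠ 0) : 0 < orderOf (Fintype.card F : ZMod p) := by
  rw [orderOf_pos_iff, isOfFinOrder_iff_isUnit]
  exact (card_ne_zmod hpF).isUnit

/-- **`dim C_V(P) < d`.** -/
theorem finrank_fix_lt (hpF : (p : F) ≠ 0) (hq : ¬ p ∣ Fintype.card F - 1) :
    finrank F (fixV (P : Subgroup (SLn F n))) < orderOf (Fintype.card F : ZMod p) := by
  by_contra hcon
  push Not at hcon
  obtain ⟨A, hA, hA1⟩ := exists_order_p hcon (order_pos hpF) hpF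
  obtain ⟨e, h1, h2, h3, h4⟩ := exists_proj P hpF (fixV (P : Subgroup (SLn F n))) (fun x hx w hw => by rw [hw x hx]; exact hw)
  let b := Module.finBasis F (fixV (P : Subgroup (SLn F n)))
  let y : Module.End F (fixV (P : Subgroup (SLn F n))) := Matrix.toLinAlgEquiv b A
  have hy : y ^ p = 1 := by
    show (Matrix.toLinAlgEquiv b A) ^ p = 1
    rw [← map_pow, hA, map_one]
  have hy1 : y ≠ 1 := by
    intro h
    apply hA1
    apply (Matrix.toLinAlgEquiv b).injective
    rw [map_one]
    exact h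
  let e' : (Fin n → F) →ₗ[F] fixV (P : Subgroup (SLn F n)) := e.codRestrict (fixV (P : Subgroup (SLn F n))) h1
  have he' : ∀ v, ((e' v : fixV (P : Subgroup (SLn F n))) : Fin n → F) = e v := fun v => rfl
  have hee : ∀ u : fixV (P : Subgroup (SLn F n)), e' (u : Fin n → F) = u := fun u => Subtype.ext (h2 _ u.2)
  have hee0 : ∀ v, e' (v - e v) = 0 := fun v => by
    apply Subtype.ext
    rw [he', map_sub]
    have := LinearMap.congr_fun h3 v
    rw [Module.End.mul_apply] at this
    rw [this, sub_self]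
    rfl
  let T : Module.End F (Fin n → F) := (fixV (P : Subgroup (SLn F n))).subtype ∘ₗ y ∘ₗ e' + (1 - e)
  have hT : ∀ v, T v = (y (e' v) : fixV (P : Subgroup (SLn F n))) + (v - e v) := fun v => rfl
  have hTk : ∀ (k : ℕ) v, (T ^ k) v = ((y ^ k) (e' v) : fixV (P : Subgroup (SLn F n))) + (v - e v) := by
    intro k
    induction k with
    | zero =>
      intro v
      rw [pow_zero, pow_zero, Module.End.one_apply, Module.End.one_apply, he']
      abel
    | succ k ih =>
      intro v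
      rw [pow_succ, Module.End.mul_apply, ih, hT, map_add, hee, hee0, add_zero, map_add, h2 _ (y (e' v)).2]
      have h5 : e (v - e v) = 0 := congrArg Subtype.val (hee0 v)
      rw [h5, pow_succ, Module.End.mul_apply]
      abel
  have hTp : T ^ p ^ 1 = 1 := by
    rw [pow_one]
    apply LinearMap.ext
    intro v
    rw [hTk, hy, Module.End.one_apply, Module.End.one_apply, he']
    abel
  have hdet := det_eq_one (p := p) hq hTp
  have hmem : mkSL T hdet ∈ (P : Subgroup (SLn F n)) := by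
    refine mem_of_comm P (m := 1) (rho_injective ?_) fun x hx => rho_injective ?_
    · rw [map_pow, rho_mkSL, hTp, map_one]
    · rw [map_mul, map_mul, rho_mkSL]
      apply LinearMap.ext
      intro v
      rw [Module.End.mul_apply, Module.End.mul_apply, hT, hT, map_add, map_sub]
      have h5 : e (rho F n x v) = e v := by
        have h6 := LinearMap.congr_fun (h4 x hx) v
        rw [Module.End.mul_apply, Module.End.mul_apply] at h6
        rw [h6]
        exact h1 v x hx
      have h7 : e' (rho F n x v) = e' v := Subtype.ext h5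
      rw [h5, h7, (y (e' v)).2 x hx, h1 v x hx]
  apply hy1
  apply LinearMap.ext
  intro u
  have h5 := u.2 _ hmem
  rw [rho_mkSL, hT, hee, h2 _ u.2, sub_self, add_zero] at h5
  exact Subtype.ext h5

/-- **`dim C_V(P) = n % d`.** -/
theorem finrank_fix (hpF : (p : F) ≠ 0) (hq : ¬ p ∣ Fintype.card F - 1) :
    finrank F (fixV (P : Subgroup (SLn F n))) = n % orderOf (Fintype.card F : ZMod p) := by
  have h1 := finrank_mod P.isPGroup' hpF (W := ⊤) (fun _ _ _ _ => Submodule.mem_top)
  rw [finrank_top, finrank_fin_fun, top_inf_eq] at h1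
  have h2 := finrank_fix_lt P hpF hq
  rw [← Nat.mod_eq_of_lt h2]
  exact h1.symm

/-- **`d ≥ 2`: invariance under `C(P)`.** -/
theorem stable_of (hpF : (p : F) ≠ 0) (hq : ¬ p ∣ Fintype.card F - 1) {W : Submodule F (Fin n → F)}
    (hW : ∀ x ∈ (P : Subgroup (SLn F n)), ∀ w ∈ W, rho F n x w ∈ W) (h0 : W ⊓ fixV (P : Subgroup (SLn F n)) = ⊥ ∨ fixV (P : Subgroup (SLn F n)) ≤ W) {g : SLn F n}
    (hg : ∀ x ∈ (P : Subgroup (SLn F n)), g * x = x * g) {w : Fin n → F} (hw : w ∈ W) : rho F n g w ∈ W := by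
  rcases h0 with h0 | h0
  · -- `w` is a sum of `x u - u`
    obtain ⟨e, h1, h2, h3, h4⟩ := exists_proj P hpF (fixV (P : Subgroup (SLn F n))) (fun x hx w hw => by rw [hw x hx]; exact hw)
    classical
    have : Fintype (P : Subgroup (SLn F n)) := Fintype.ofFinite _
    have hcard := card_ne P hpF
    have hsum : (∑ x : (P : Subgroup (SLn F n)), rho F n x w) = 0 := by
      have h5 : (∑ x : (P : Subgroup (SLn F n)), rho F n x w) ∈ W ⊓ fixV (P : Subgroup (SLn F n)) := by
        refine ⟨W.sum_mem fun x _ => hW x x.2 w hw, fun y hy => ?_⟩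
        rw [map_sum]
        refine Fintype.sum_equiv (Equiv.mulLeft (⟨y, hy⟩ : (P : Subgroup (SLn F n)))) _ _ fun x => ?_
        exact (rho_mul y x w).symm
      rw [h0] at h5
      exact (Submodule.mem_bot F).1 h5
    have hw' : (Nat.card (P : Subgroup (SLn F n)) : F) • w = ∑ x : (P : Subgroup (SLn F n)), (w - rho F n x w) := by
      rw [Finset.sum_sub_distrib, hsum, sub_zero, Finset.sum_const, Finset.card_univ, ← Nat.card_eq_fintype_card,
        Nat.cast_smul_eq_nsmul F]
    have h6 : (Nat.card (P : Subgroup (SLn F n)) : F) • rho F n g w ∈ W := by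
      rw [← map_smul, hw', map_sum]
      refine W.sum_mem fun x _ => ?_
      rw [map_sub, comm_apply (hg x x.2)]
      obtain ⟨w', hw1, hw2⟩ := sub_mem_fix P hpF hq hW hg hw
      have h7 := hw2 x x.2
      rw [map_sub] at h7
      have h8 : rho F n g w - rho F n x (rho F n g w) = w' - rho F n x w' := by
        have h9 : rho F n x (rho F n g w) = rho F n g w - w' + rho F n x w' := by rw [← h7]; abel
        rw [h9]
        abel
      rw [h8]
      exact W.sub_mem hw1 (hW x x.2 _ hw1)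
    have h7 := W.smul_mem (Nat.card (P : Subgroup (SLn F n)) : F)⁻¹ h6
    rwa [smul_smul, inv_mul_cancel₀ hcard, one_smul] at h7
  · obtain ⟨w', hw1, hw2⟩ := sub_mem_fix P hpF hq hW hg hw
    have h5 := W.add_mem (h0 hw2) hw1
    rwa [sub_add_cancel] at h5

/-- the determinant of `a e + b (1 - e)` -/
theorem det_proj {W : Submodule F (Fin n → F)} {e : Module.End F (Fin n → F)} (h1 : ∀ v, e v ∈ W)
    (h2 : ∀ w ∈ W, e w = w) (a b : F) :
    LinearMap.det (a • e + b • (1 - e)) = a ^ finrank F W * b ^ (n - finrank F W) := by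
  have hz : ∀ v, (a • e + b • (1 - e)) v = a • e v + b • (v - e v) := fun v => rfl
  have he : W ≤ W.comap (a • e + b • (1 - e)) := by
    intro w hw
    rw [Submodule.mem_comap, hz, h2 w hw, sub_self, smul_zero, add_zero]
    exact W.smul_mem _ hw
  rw [LinearMap.det_eq_det_mul_det W _ he]
  have h3 : (a • e + b • (1 - e)).restrict he = a • (LinearMap.id : W →ₗ[F] W) := by
    apply LinearMap.ext
    intro w
    apply Subtype.ext
    rw [LinearMap.restrict_coe_apply, hz, h2 w w.2, sub_self, smul_zero, add_zero]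
    rfl
  have h4 : W.mapQ W (a • e + b • (1 - e)) he = b • (LinearMap.id : ((Fin n → F) ⧸ W) →ₗ[F] _) := by
    apply LinearMap.ext
    intro v
    obtain ⟨v, rfl⟩ := Submodule.Quotient.mk_surjective W v
    rw [Submodule.mapQ_apply, hz, LinearMap.smul_apply, LinearMap.id_apply, ← Submodule.Quotient.mk_smul,
      Submodule.Quotient.eq]
    have h5 : a • e v + b • (v - e v) - b • v = (a - b) • e v := by
      rw [smul_sub, sub_smul]
      abel
    rw [h5]
    exact W.smul_mem _ (h1 v)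
  rw [h3, h4, LinearMap.det_smul, LinearMap.det_smul, LinearMap.det_id, LinearMap.det_id, mul_one, mul_one]
  congr 2
  rw [Submodule.finrank_quotient, finrank_fin_fun]

/-- **`d = 1`, `p ∤ n`: invariance under `C(P)`.** -/
theorem stable_one (hpF : (p : F) ≠ 0) (hq : p ∣ Fintype.card F - 1) (hn : ¬ p ∣ n) {W : Submodule F (Fin n → F)}
    (hW : ∀ x ∈ (P : Subgroup (SLn F n)), ∀ w ∈ W, rho F n x w ∈ W) {g : SLn F n}
    (hg : ∀ x ∈ (P : Subgroup (SLn F n)), g * x = x * g) {w : Fin n → F} (hw : w ∈ W) : rho F n g w ∈ W := by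
  classical
  obtain ⟨ζ, hζ⟩ : ∃ ζ : Fˣ, orderOf ζ = p := by
    have h1 : p ∣ Nat.card Fˣ := by
      rw [Nat.card_eq_fintype_card, Fintype.card_units]
      exact hq
    exact exists_prime_orderOf_dvd_card' p h1
  obtain ⟨e, h1, h2, h3, h4⟩ := exists_proj P hpF W hW
  have hk : finrank F W ≤ n := by
    have := Submodule.finrank_le W
    rwa [finrank_fin_fun] at this
  set k := finrank F W with hkdef
  let a : F := (ζ : F) ^ (n - k)
  let b : F := (ζ : F) ^ ((p - 1) * k)
  have hζp : (ζ : F) ^ p = 1 := by rw [← Units.val_pow_eq_pow_val, ← hζ, pow_orderOf_eq_one, Units.val_one]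
  have hap : a ^ p = 1 := by
    show ((ζ : F) ^ (n - k)) ^ p = 1
    rw [← pow_mul, mul_comm, pow_mul, hζp, one_pow]
  have hbp : b ^ p = 1 := by
    show ((ζ : F) ^ ((p - 1) * k)) ^ p = 1
    rw [← pow_mul, mul_comm, pow_mul, hζp, one_pow]
  have hab : a ≠ b := by
    intro h
    have h5 : ζ ^ (n - k) = ζ ^ ((p - 1) * k) := Units.ext (by
      rw [Units.val_pow_eq_pow_val, Units.val_pow_eq_pow_val]; exact h)
    have h6 : ζ ^ (n - k + k) = ζ ^ ((p - 1) * k + k) := by rw [pow_add, h5, ← pow_add]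
    have h7 : (p - 1) * k + k = p * k := by
      have := hp.out.one_lt
      obtain ⟨r, rfl⟩ : ∃ r, p = r + 1 := ⟨p - 1, by omega⟩
      rw [Nat.add_sub_cancel]
      ring
    rw [Nat.sub_add_cancel hk, h7, pow_mul, ← hζ, pow_orderOf_eq_one, one_pow] at h6
    exact hn (hζ ▸ orderOf_dvd_of_pow_eq_one h6)
  let z : Module.End F (Fin n → F) := a • e + b • (1 - e)
  have hz : ∀ v, z v = a • e v + b • (v - e v) := fun v => rfl
  have hee : ∀ v, e (e v) = e v := fun v => h2 _ (h1 v)
  have hzk : ∀ (m : ℕ) v, (z ^ m) v = a ^ m • e v + b ^ m • (v - e v) := by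
    intro m
    induction m with
    | zero => intro v; rw [pow_zero, pow_zero, pow_zero, one_smul, one_smul, Module.End.one_apply]; abel
    | succ m ih =>
      intro v
      rw [pow_succ, Module.End.mul_apply, ih, hz]
      have h5 : e (a • e v + b • (v - e v)) = a • e v := by
        rw [map_add, map_smul, map_smul, map_sub, hee, sub_self, smul_zero, add_zero]
      rw [h5, add_sub_cancel_left, smul_smul, smul_smul, pow_succ, pow_succ]
  have hdet : LinearMap.det z = 1 := by
    rw [det_proj h1 h2, ← hkdef]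
    show ((ζ : F) ^ (n - k)) ^ k * ((ζ : F) ^ ((p - 1) * k)) ^ (n - k) = 1
    rw [← pow_mul, ← pow_mul, ← pow_add]
    have h7 : (n - k) * k + (p - 1) * k * (n - k) = p * (k * (n - k)) := by
      have := hp.out.one_lt
      obtain ⟨r, rfl⟩ : ∃ r, p = r + 1 := ⟨p - 1, by omega⟩
      rw [Nat.add_sub_cancel]
      ring
    rw [h7, pow_mul, hζp, one_pow]
  have hmem : mkSL z hdet ∈ (P : Subgroup (SLn F n)) := by
    refine mem_of_comm P (m := 1) (rho_injective ?_) fun x hx => rho_injective ?_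
    · rw [map_pow, rho_mkSL, map_one, pow_one]
      apply LinearMap.ext
      intro v
      rw [hzk, hap, hbp, one_smul, one_smul, Module.End.one_apply]
      abel
    · rw [map_mul, map_mul, rho_mkSL]
      apply LinearMap.ext
      intro v
      have h6 := LinearMap.congr_fun (h4 x hx) v
      rw [Module.End.mul_apply, Module.End.mul_apply] at h6
      rw [Module.End.mul_apply, Module.End.mul_apply, hz, hz, h6, map_add, map_smul, map_smul, map_sub]
  have h5 := comm_apply (hg _ hmem) w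
  rw [rho_mkSL, hz, hz, h2 w hw, sub_self, smul_zero, add_zero, map_smul] at h5
  have h6 : (a - b) • (rho F n g w - e (rho F n g w)) = 0 := by
    have h7 : (a - b) • (rho F n g w - e (rho F n g w)) =
        a • rho F n g w - (a • e (rho F n g w) + b • (rho F n g w - e (rho F n g w))) := by
      rw [sub_smul, smul_sub]
      abel
    rw [h7, h5, sub_self]
  rcases smul_eq_zero.1 h6 with h7 | h7
  · exact absurd (sub_eq_zero.1 h7) hab
  · rw [sub_eq_zero.1 h7]
    exact h1 _

end Cfsg.Agent.H829.BR
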